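import Mathlib
import Cfsg.Prelude.Def_PLocal
import Cfsg.Prelude.Def_FusionSystem

/-!
# S5289 (rank two `p`-groups are resistant for `p ≥ 5`): definitions for the swarm (architect helper77)

Abstract local configuration: `P < T ≤ N_Ω(P)` finite `p`-subgroups of an ambient group `Ω`, `T` of `p`-rank `≤ 2`, `C_T(P) ≤ P`,
`A ≤ Aut(P)` (in use `Aut_F(P)`) containing `Aut_T(P)` as a Sylow `p`-subgroup, `B ≤ Aut(T)` (in use `Aut_F(T)`), and every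
element of `A` normalizing `Aut_T(P)` extends to an element of `B`.
-/

set_option autoImplicit false

universe u

namespace Cfsg.Agent.Helper77.Res

variable {Ω : Type u} [Group Ω]

/-- `α ∈ Aut(P)` is conjugation by some element of `K` -/
def ConjBy (K P : Subgroup Ω) (α : MulAut ↥P) : Prop :=
  ∃ g ∈ K, ∀ x : P, ((α x : P) : Ω) = g * (x : Ω) * g⁻¹

/-- `Z(P)` as a subgroup of the ambient group -/
def zOf (P : Subgroup Ω) : Subgroup Ω := P ⊓ Subgroup.centralizer (P : Set Ω)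

/-- the local configuration -/
structure Cfg (p : ℕ) (T P : Subgroup Ω) (A : Subgroup (MulAut ↥P)) (B : Subgroup (MulAut ↥T)) : Prop where
  fin : Finite T
  pgrp : IsPGroup p T
  le : P ≤ T
  ne : P ≠ T
  norm : T ≤ Subgroup.normalizer (P : Set Ω)
  cent : ∀ t ∈ T, (∀ x ∈ P, t * x = x * t) → t ∈ P
  rank : ∀ E : Subgroup Ω, E ≤ T → (∀ a ∈ E, ∀ b ∈ E, a * b = b * a) → (∀ e ∈ E, e ^ p = 1) → Nat.card E ≤ p ^ 2
  conj_mem : ∀ α : MulAut P, ConjBy T P α → α ∈ A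
  sylow : ∀ Q : Subgroup (MulAut P), Q ≤ A → IsPGroup p Q → (∀ α, ConjBy T P α → α ∈ Q) → ∀ β ∈ Q, ConjBy T P β
  ext : ∀ h ∈ A, (∀ α, ConjBy T P α → ConjBy T P (h * α * h⁻¹)) →
    ∃ ψ ∈ B, ∀ x : P, ((ψ ⟨(x : Ω), le x.2⟩ : T) : Ω) = ((h x : P) : Ω)

/-- `P` is radical for `A`: every normal `p`-subgroup of `A` consists of inner automorphisms of `P` -/
def Rad (p : ℕ) (P : Subgroup Ω) (A : Subgroup (MulAut ↥P)) : Prop :=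
  ∀ N : Subgroup (MulAut P), N ≤ A → IsPGroup p N → (∀ α ∈ A, ∀ β ∈ N, α * β * α⁻¹ ∈ N) → ∀ β ∈ N, ConjBy P P β

/-- `A` is `p`-closed: `Aut_T(P)` is normal in `A` -/
def PClosed (T P : Subgroup Ω) (A : Subgroup (MulAut ↥P)) : Prop :=
  ∀ α ∈ A, ∀ β : MulAut P, ConjBy T P β → ConjBy T P (α * β * α⁻¹)

/-- the pearl alternative: `P ≅ C_p²`, `T ≅ p_+^{1+2}` and an element `ψ ∈ B` of order prime to `p` normalizing `P` and acting on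
`P/Z(T)` as the `a`-th power with `a² ≢ 1 mod p` -/
def Pearl (p : ℕ) (T P : Subgroup Ω) (B : Subgroup (MulAut ↥T)) : Prop :=
  Nat.card P = p ^ 2 ∧ Nat.card T = p ^ 3 ∧ (∀ t ∈ T, t ^ p = 1) ∧
  ∃ ψ ∈ B, ∃ a : ℕ, a ^ 2 % p ≠ 1 ∧ (orderOf ψ).Coprime p ∧
    ∀ x : T, (x : Ω) ∈ P → ((ψ x : T) : Ω) ∈ P ∧
      ∀ t ∈ T, (((x : Ω) ^ a)⁻¹ * ((ψ x : T) : Ω)) * t = t * (((x : Ω) ^ a)⁻¹ * ((ψ x : T) : Ω))

/-- the output of the torus lemma for the `A`-invariant section `V/W ≅ C_p²` of `P` and the exponent `m` -/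
def TorusData (p : ℕ) (T P : Subgroup Ω) (A : Subgroup (MulAut ↥P)) (B : Subgroup (MulAut ↥T)) (hPT : P ≤ T)
    (V W : Subgroup Ω) (m : ℕ) : Prop :=
  ∃ (V1 : Subgroup Ω) (n : ℕ) (h : MulAut P) (ψ : MulAut T), W ≤ V1 ∧ V1 ≤ V ∧ Nat.card V1 = p * Nat.card W ∧
    Nat.card T = p * Nat.card P ∧
    (∀ t ∈ T, ∀ v ∈ V1, v⁻¹ * (t * v * t⁻¹) ∈ W) ∧
    (∀ t ∈ T, ∀ v ∈ V, v⁻¹ * (t * v * t⁻¹) ∈ V1) ∧
    (∃ t ∈ T, ∃ v ∈ V, v⁻¹ * (t * v * t⁻¹) ∉ W) ∧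
    m * n % p = 1 ∧ h ∈ A ∧ ψ ∈ B ∧ (orderOf ψ).Coprime p ∧
    (∀ x : P, ((ψ ⟨(x : Ω), hPT x.2⟩ : T) : Ω) = ((h x : P) : Ω)) ∧
    (∀ x : P, (x : Ω) ∈ V1 → ((x : Ω) ^ m)⁻¹ * ((h x : P) : Ω) ∈ W) ∧
    (∀ x : P, (x : Ω) ∈ V → ((x : Ω) ^ n)⁻¹ * ((h x : P) : Ω) ∈ V1) ∧
    (∀ t : T, ((t : Ω) ^ (m * m))⁻¹ * ((ψ t : T) : Ω) ∈ P)

end Cfsg.Agent.Helper77.Res
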