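import Mathlib
import Cfsg.Agent.Helper34.ResPR
import Cfsg.Agent.Helper37.ResSL2
import Cfsg.Agent.Helper69.ResOM
import Cfsg.Agent.Helper47.ResA
import Cfsg.Agent.Helper49.ResLINE
import Cfsg.Agent.Helper34.ResB
import Cfsg.Agent.Helper2.ResC1
import Cfsg.Agent.Helper10.ResC2
import Cfsg.Agent.Helper48.ResT
import Cfsg.Agent.Helper50.ResC3
import Cfsg.Agent.Helper68.ResD1
import Cfsg.Agent.Helper86.ResD2
import Cfsg.Agent.Helper59.ResRAD
import Cfsg.Agent.Helper72.ResALL2
import Cfsg.Agent.Helper31.ResGL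
import Cfsg.Agent.Helper31.ResGR
import Cfsg.Agent.Helper64.ResGS
import Cfsg.Agent.Helper86.ResG2
import Cfsg.Agent.Helper77.Res.Defs
import Cfsg.Agent.S5077
import Cfsg.Agent.S5301

set_option autoImplicit false

universe u

namespace Cfsg.Agent.Helper77.Res

open Subgroup Cfsg Cfsg.FusionSystem

variable {Ω : Type u} [Group Ω] {p : ℕ} [hp : Fact p.Prime]

/-- the abstract local theorem -/
theorem local_main {T P : Subgroup Ω} {A : Subgroup (MulAut ↥P)} {B : Subgroup (MulAut ↥T)}
    (h5 : 5 ≤ p) (hc : Cfg p T P A B) (hrad : Rad p P A) : PClosed T P A ∨ Pearl p T P B := by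
  by_cases hnpc : PClosed T P A
  · exact Or.inl hnpc
  right
  have hp2 : p ≠ 2 := by omega
  have := hc.fin
  have hPfin : Finite P := Finite.of_injective (Subgroup.inclusion hc.le) (Subgroup.inclusion_injective hc.le)
  have hPp : IsPGroup p P := hc.pgrp.to_le hc.le
  have hPne : P ≠ ⊥ := by
    intro hP
    apply hc.ne
    apply le_antisymm hc.le
    intro t ht
    apply hc.cent t ht
    intro x hx
    rw [hP, Subgroup.mem_bot] at hx
    rw [hx, mul_one, one_mul]
  have hrkP : ∀ E : Subgroup Ω, E ≤ P → (∀ a ∈ E, ∀ b ∈ E, a * b = b * a) → (∀ e ∈ E, e ^ p = 1) →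
      Nat.card E ≤ p ^ 2 := fun E hE => hc.rank E (hE.trans hc.le)
  obtain ⟨hRexp, hcases⟩ := Cfsg.Agent.Helper69.Res.omega_cases h5 P hPp hPne hrkP
  obtain ⟨m, hm, hm1, hm2, hm3⟩ := Cfsg.Agent.Helper34.Res.exists_good_exponent (p := p) h5
  rcases hcases with hR1 | hR2 | ⟨hR3, hRna⟩
  · exact absurd (Cfsg.Agent.Helper47.Res.pclosed_of_card_p hp2 hc hR1) hnpc
  · have hline := fun L hL hLc hLi => Cfsg.Agent.Helper49.Res.pclosed_of_line hp2 hc hRexp hR2 L hL hLc hLi
    by_cases hcen : ∀ r ∈ Cfsg.omegaOne p P, ∀ x ∈ P, r * x = x * r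
    · have hab := Cfsg.Agent.Helper2.Res.abelian_of_central h5 hc hnpc hRexp hR2 hline hcen
      have hPcard := Cfsg.Agent.Helper10.Res.card_of_central_abelian h5 hc hrad hnpc hRexp hR2 hline hab
      -- P = R has exponent p
      have hRP : Cfsg.omegaOne p P ≤ P := by
        unfold Cfsg.omegaOne
        rw [Subgroup.closure_le]
        rintro x ⟨hx, -⟩
        exact hx
      have hReq : Cfsg.omegaOne p P = P := by
        have hfinP : Finite (P : Set Ω) := hPfin
        apply Subgroup.eq_of_le_of_card_ge hRP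
        rw [hPcard, hR2]
      have hPexp : ∀ x ∈ P, x ^ p = 1 := by
        intro x hx
        rw [← hReq] at hx
        exact hRexp x hx
      have hT := Cfsg.Agent.Helper48.Res.torus hc hrad hnpc P ⊥ bot_le le_rfl (fun α _ x _ => (α x).2)
        (fun α _ x hx => by
          rw [Subgroup.mem_bot] at hx ⊢
          have hx1 : x = 1 := Subtype.ext hx
          rw [hx1, map_one]; rfl)
        (by rw [Subgroup.card_bot, mul_one, hPcard])
        (fun v _ w hw => by
          rw [Subgroup.mem_bot] at hw ⊢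
          rw [hw, mul_one, mul_inv_cancel])
        (fun u hu v hv => by
          rw [Subgroup.mem_bot, hab u hu v hv, mul_inv_cancel_right, mul_inv_cancel])
        (fun v hv => by rw [Subgroup.mem_bot]; exact hPexp v hv)
        (fun α _ hα => by
          refine ⟨0, ?_⟩
          rw [pow_zero, orderOf_eq_one_iff]
          ext x
          have := hα x x.2
          rw [Subgroup.mem_bot, inv_mul_eq_one] at this
          exact this.symm)
        m hm
      exact Cfsg.Agent.Helper50.Res.pearl_of_card h5 hc hPcard m hm1 hm2 hT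
    · exact absurd (Cfsg.Agent.Helper34.Res.pclosed_of_noncentral hp2 hc hRexp hR2 hline hcen) hnpc
  · obtain ⟨hZcyc, hPcard, hRZ, hPRZ, hpow, hcomm, hker⟩ :=
      Cfsg.Agent.Helper68.Res.extraspecial_struct h5 hc hrad hnpc hRexp hR3 hRna
    have hzle : zOf P ≤ P := inf_le_left
    have hT := Cfsg.Agent.Helper48.Res.torus hc hrad hnpc P (zOf P) hzle le_rfl (fun α _ x _ => (α x).2)
      (fun α _ x hx => by
        -- the centre is characteristic
        have hx' : (x : Ω) ∈ P ⊓ Subgroup.centralizer (P : Set Ω) := hx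
        rw [Subgroup.mem_inf] at hx'
        show ((α x : P) : Ω) ∈ P ⊓ Subgroup.centralizer (P : Set Ω)
        rw [Subgroup.mem_inf]
        refine ⟨(α x).2, ?_⟩
        rw [Subgroup.mem_centralizer_iff]
        intro y hy
        have hxc := hx'.2
        rw [Subgroup.mem_centralizer_iff] at hxc
        have h1 : (α.symm ⟨y, hy⟩ : P) * x = x * (α.symm ⟨y, hy⟩ : P) := by
          apply Subtype.ext
          exact hxc _ (α.symm ⟨y, hy⟩).2
        have h2 := congrArg α h1
        rw [map_mul, map_mul, MulEquiv.apply_symm_apply] at h2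
        exact congrArg Subtype.val h2)
      hPcard
      (fun v hv w hw => by
        have hw' : w ∈ P ⊓ Subgroup.centralizer (P : Set Ω) := hw
        rw [Subgroup.mem_inf] at hw'
        have hwc := hw'.2
        rw [Subgroup.mem_centralizer_iff] at hwc
        have : v * w * v⁻¹ = w := by rw [hwc v hv, mul_inv_cancel_right]
        rw [this]; exact hw)
      hcomm hpow (fun α hα h => hker α hα (fun x => h x x.2)) m hm
    exact (Cfsg.Agent.Helper86.Res.extraspecial_contra h5 hc hRexp hR3 hRna hZcyc hPcard hRZ hPRZ m hm1 hm2 hm3 hT).elim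

/-- the fusion theorem -/
theorem resistant {S : Subgroup Ω} [Finite S] (hS : IsPGroup p S) (F : FusionSystem S) (hF : F.IsSaturated p)
    (h5 : 5 ≤ p)
    (hrank3 : ∀ E : Subgroup Ω, E ≤ S → Cfsg.IsElementaryAbelian p E → Nat.card E ≤ p ^ 2)
    (hnotE : ¬ (Nat.card S = p ^ 3 ∧ Monoid.exponent ↥S = p)) : F.IsNormal S := by
  have hp2 : p ≠ 2 := by omega
  obtain ⟨hsat1, hsat2⟩ := (Cfsg.Agent.S5077.result p hS F).1 hF
  refine Cfsg.Agent.S5301.result p hS F hF ?_
  intro P hPn hPc hPr
  by_cases hPS : P = S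
  · subst hPS
    exact Cfsg.Agent.Helper31.Res.normal_sylow_top hS F hF
  have hPa : F.IsFullyAutomized p P := (hsat1 P hPn).2
  have hPrec : F.IsReceptive P := hsat2 P (hsat1 P hPn).1
  have hPle : P ≤ S := hPn.1
  have hPcen : centralizerIn S P ≤ P := hPc.2 P ⟨P.subtype, by
      have := F.conj_mem (P := P) (g := 1) hPle (one_mem S)
      have h1 : conjHom P (1 : Ω) = P.subtype := by
        ext x
        simp [conjHom]
      rwa [h1] at this, Subgroup.range_subtype P⟩
  have hc := Cfsg.Agent.Helper31.Res.cfg_of_receptive hS F hrank3 P hPa hPrec hPcen hPS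
  have hrad := Cfsg.Agent.Helper31.Res.rad_of_isRadical hS F P hPr
  rcases local_main h5 hc hrad with hpc | hpearl
  · exact Cfsg.Agent.Helper64.Res.normal_sylow_of_pclosed hS F P hPa hpc
  exfalso
  by_cases hTS : normalizerIn S P = S
  · -- S itself is extraspecial of order p^3 and exponent p
    apply hnotE
    obtain ⟨-, hT3, hTexp, -⟩ := hpearl
    rw [hTS] at hT3 hTexp
    refine ⟨hT3, ?_⟩
    have hdvd : Monoid.exponent ↥S ∣ p := by
      apply Monoid.exponent_dvd_of_forall_pow_eq_one
      intro s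
      apply Subtype.ext
      simpa using hTexp s s.2
    rcases (Nat.dvd_prime hp.out).1 hdvd with h1 | h1
    · exfalso
      have : Subsingleton ↥S := Monoid.exp_eq_one_iff.1 h1
      have hc1 : Nat.card S = 1 := Nat.card_unique
      rw [hT3] at hc1
      have := hp.out.one_lt
      have : 1 < p ^ 3 := Nat.one_lt_pow (by norm_num) this
      omega
    · exact h1
  · obtain ⟨T', P', hc', hT3, hTexp, hTna, hP'T', hP'card, hP'n, ψ, hψ, a, ha, hcop, hψP'⟩ :=
      Cfsg.Agent.Helper86.Res.transport_pearl hS F hF hrank3 P hPn hPc hpearl hTS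
    have hpc' : PClosed (normalizerIn S T') T' (F.autGroup T') := by
      by_contra hnpc'
      have hrad' := Cfsg.Agent.Helper59.Res.rad_of_extraspecial hp2 hc' hT3 hTexp hTna hnpc'
      rcases local_main h5 hc' hrad' with h | h
      · exact hnpc' h
      · have h2 := h.1
        rw [hT3] at h2
        have := hp.out.one_lt
        have : p ^ 3 ≠ p ^ 2 := by
          intro h
          have := Nat.pow_right_injective hp.out.two_le h
          omega
        exact this h2
    exact Cfsg.Agent.Helper72.Res.no_pearl_above h5 hc' hpc' hT3 hTexp hTna P' hP'T' hP'card hP'n ψ hψ a ha hcop hψP'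

end Cfsg.Agent.Helper77.Res
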